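import Groth.Agent.PBasis12.Basic
import Mathlib.FieldTheory.KummerPolynomial
import Mathlib.FieldTheory.IntermediateField.Basic
import Mathlib.Order.Zorn

/-!
`p`-independence in field extensions.
-/

universe u

namespace Groth.Agent.PBasis12

open EGA41

variable {p : ℕ} [Fact p.Prime] {k K : Type u} [Field k] [Field K] [Algebra k K] [CharP K p]
  {ι : Type u}

/-- An intermediate field attached to a subalgebra containing all `p`-th powers. -/
noncomputable def fieldOf (C : Subalgebra k K) (h : ∀ y : K, y ^ p ∈ C) : IntermediateField k K :=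
  C.toIntermediateField fun a ha => by
    rcases eq_or_ne a 0 with rfl | h0
    · simp [zero_mem]
    have : a⁻¹ = a ^ (p - 1) * a⁻¹ ^ p := by
      conv_rhs => rw [show p = p - 1 + 1 from (Nat.sub_add_cancel (Fact.out : p.Prime).one_le).symm]
      rw [Nat.add_sub_cancel, pow_succ, ← mul_assoc, ← mul_pow, mul_inv_cancel₀ h0, one_pow, one_mul]
    rw [this]
    exact mul_mem (pow_mem ha _) (h _)

omit [Fact p.Prime] [CharP K p] in
theorem pow_mem_adjoin (T : Set K) (y : K) :
    y ^ p ∈ (Algebra.adjoin (pPowerSubalgebra p k K) T).restrictScalars k :=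
  (Algebra.adjoin (pPowerSubalgebra p k K) T).algebraMap_mem ⟨y ^ p, pow_mem_pPower y⟩

/-- Membership in the subalgebra generated over `k[K^p]` and in the generated subfield agree. -/
theorem mem_adjoin_iff (T : Set K) (c : K) :
    c ∈ IntermediateField.adjoin k ((Set.range fun y : K => y ^ p) ∪ T) ↔
      c ∈ Algebra.adjoin (pPowerSubalgebra p k K) T := by
  constructor
  · intro h
    suffices IntermediateField.adjoin k ((Set.range fun y : K => y ^ p) ∪ T) ≤
        fieldOf _ (pow_mem_adjoin T) from this h
    rw [IntermediateField.adjoin_le_iff]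
    rintro y (⟨z, rfl⟩ | hy)
    · exact pow_mem_adjoin T z
    · exact Algebra.subset_adjoin hy
  · intro h
    induction h using Algebra.adjoin_induction with
    | mem y hy => exact IntermediateField.subset_adjoin _ _ (Or.inr hy)
    | algebraMap s =>
      have hle : pPowerSubalgebra p k K ≤
          (IntermediateField.adjoin k ((Set.range fun y : K => y ^ p) ∪ T)).toSubalgebra := by
        rw [pPowerSubalgebra, Algebra.adjoin_le_iff]
        exact fun y hy => IntermediateField.subset_adjoin _ _ (Or.inl hy)
      exact hle s.2
    | add a b _ _ ha hb => exact add_mem ha hb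
    | mul a b _ _ ha hb => exact mul_mem ha hb

/-- Adding an element outside the generated subalgebra keeps `p`-independence. -/
theorem isPIndependent_option {x : ι → K} (hx : IsPIndependent p k x) {c : K}
    (hc : c ∉ Algebra.adjoin (pPowerSubalgebra p k K) (Set.range x)) :
    IsPIndependent p k (fun o : Option ι => o.elim c x) := by
  classical
  set S := pPowerSubalgebra p k K
  set C := Algebra.adjoin S (Set.range x)
  let F := fieldOf (C.restrictScalars k) (pow_mem_adjoin (Set.range x))
  have hcF : c ∉ F := hc
  let a : F := ⟨c ^ p, pow_mem_adjoin (Set.range x) c⟩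
  have hroot : ∀ b : F, b ^ p ≠ a := by
    intro b hb
    have h1 : (b : K) ^ p = c ^ p := congrArg Subtype.val hb
    have h2 : (b : K) = c := by
      rw [← sub_eq_zero]
      refine (pow_eq_zero_iff (Fact.out : p.Prime).ne_zero).mp ?_
      rw [sub_pow_char, h1, sub_self]
    exact hcF (h2 ▸ b.2)
  have hirr := X_pow_sub_C_irreducible_of_prime (Fact.out : p.Prime) hroot
  have hmin : minpoly F c = Polynomial.X ^ p - Polynomial.C a :=
    (minpoly.eq_of_irreducible_of_monic hirr (by simp; exact sub_self _)
      (Polynomial.monic_X_pow_sub_C _ (Fact.out : p.Prime).ne_zero)).symm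
  have hdeg : (minpoly F c).natDegree = p := by rw [hmin, Polynomial.natDegree_X_pow_sub_C]
  have hlc : LinearIndependent F (fun n : Fin p => c ^ (n : ℕ)) :=
    (linearIndependent_pow (K := F) c).comp (Fin.cast hdeg.symm) (Fin.cast_injective _)
  have hlcC : LinearIndependent C (fun n : Fin p => c ^ (n : ℕ)) := by
    rw [Fintype.linearIndependent_iff] at hlc ⊢
    intro g hg i
    have := hlc (fun n => (⟨(g n : K), (g n).2⟩ : F)) hg i
    exact Subtype.ext (congrArg Subtype.val this :)
  have hb : LinearIndependent S (fun e : Red p ι =>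
      (⟨pMonomial x e.1, prod_mem fun i _ => pow_mem (Algebra.subset_adjoin (Set.mem_range_self i)) _⟩ : C)) :=
    LinearIndependent.of_comp C.val.toLinearMap hx
  have hprod := linearIndependent_smul hb hlcC
  let split : Red p (Option ι) → Red p ι × Fin p := fun e =>
    (⟨e.1.some, fun i => e.2 (some i)⟩, ⟨e.1 none, e.2 none⟩)
  have hsplit : Function.Injective split := by
    intro a b hab
    apply Subtype.ext
    obtain ⟨h1, h2⟩ := Prod.ext_iff.mp hab
    ext (_ | i)
    · exact congrArg Fin.val h2
    · exact DFunLike.congr_fun (congrArg Subtype.val h1) i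
  have := hprod.comp split hsplit
  rw [IsPIndependent]
  convert this using 1
  funext e
  show pMonomial _ e.1 = pMonomial x e.1.some * c ^ (e.1 none)
  rw [pMonomial, Finsupp.prod_option_index _ _ (fun o => pow_zero _) (fun o m₁ m₂ => pow_add _ _ _), mul_comm]
  rfl

theorem isPIndependent_iff (x : ι → K) :
    IsPIndependent p k x ↔
      ∀ a : ι, x a ∉ Algebra.adjoin (pPowerSubalgebra p k K) (x '' {b | b ≠ a}) := by
  classical
  constructor
  · intro h a ha
    have hs : x '' {b | b ≠ a} = Set.range (fun b : {b // b ≠ a} => x b) := by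
      ext; simp
    rw [hs] at ha
    let t : {b // b ≠ a} → pPowerSubalgebra p k K := fun b => ⟨x b ^ p, pow_mem_pPower _⟩
    rw [Algebra.adjoin_range_eq_range_aeval] at ha
    obtain ⟨f, hf⟩ := ha
    obtain ⟨g, hg, hfg⟩ := exists_reduced (p := p) t f
    have h0 : relIdeal p t ≤ RingHom.ker (MvPolynomial.aeval (fun b : {b // b ≠ a} => x b) :
        MvPolynomial _ (pPowerSubalgebra p k K) →ₐ[_] K) := by
      rw [relIdeal, Ideal.span_le]
      rintro _ ⟨i, rfl⟩
      simp [t]
    have hxa : x a = MvPolynomial.aeval (fun b : {b // b ≠ a} => x b) g := by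
      rw [← hf, ← sub_eq_zero]
      have := h0 hfg
      rw [RingHom.mem_ker, map_sub] at this
      exact this
    let ea : Red p ι := ⟨Finsupp.single a 1, fun i => by
      by_cases hi : i = a
      · subst hi; simpa using (Fact.out : p.Prime).one_lt
      · simpa [Finsupp.single_eq_of_ne hi] using (Fact.out : p.Prime).pos⟩
    let R : Set (Red p ι) := {e | e.1 a = 0}
    have key : ∀ g' ∈ Submodule.span (pPowerSubalgebra p k K) (Set.range fun e : Red p {b // b ≠ a} =>
        MvPolynomial.monomial e.1 (1 : pPowerSubalgebra p k K)),
        MvPolynomial.aeval (fun b : {b // b ≠ a} => x b) g' ∈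
          Submodule.span (pPowerSubalgebra p k K) ((fun e : Red p ι => pMonomial x e.1) '' R) := by
      intro g' hg'
      induction hg' using Submodule.span_induction with
      | mem y hy =>
        obtain ⟨⟨e, he⟩, rfl⟩ := hy
        have hea : (e.mapDomain (Subtype.val : {b // b ≠ a} → ι)) a = 0 :=
          Finsupp.mapDomain_of_notMem_range _ _ (by simp)
        refine Submodule.subset_span ⟨⟨e.mapDomain Subtype.val, fun i => ?_⟩, hea, ?_⟩
        · by_cases hi : i = a
          · subst hi; rw [hea]; exact (Fact.out : p.Prime).pos
          · rw [Finsupp.mapDomain_apply Subtype.val_injective e (⟨i, hi⟩ : {b // b ≠ a})]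
            exact he _
        · rw [aeval_monomial_one]
          exact pMonomial_mapDomain x Subtype.val_injective e
      | zero => simp
      | add y z _ _ hy hz => rw [map_add]; exact add_mem hy hz
      | smul s y _ hy => rw [map_smul]; exact Submodule.smul_mem _ s hy
    have hmem : x a ∈ Submodule.span (pPowerSubalgebra p k K) ((fun e : Red p ι => pMonomial x e.1) '' R) :=
      hxa ▸ key g hg
    have hea : ea ∉ R := fun he => one_ne_zero (show (1 : ℕ) = 0 by simpa [R, ea] using he)
    refine h.notMem_span_image hea ?_
    have : pMonomial x ea.1 = x a := by simp [ea, pMonomial]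
    show pMonomial x ea.1 ∈ _
    rw [this]
    exact hmem
  · intro h
    refine isPIndependent_of_finset fun U => ?_
    induction U using Finset.induction_on with
    | empty =>
      rw [IsPIndependent]
      refine LinearIndependent.of_subsingleton' (⟨0, fun i => (Finset.notMem_empty _ i.2).elim⟩ : Red p _) ?_ <;>
        simp [pMonomial]
    | @insert a U ha ih =>
      have hc : x a ∉ Algebra.adjoin (pPowerSubalgebra p k K) (Set.range fun i : U => x i) := fun hm =>
        h a (Algebra.adjoin_mono (by rintro _ ⟨i, rfl⟩; exact ⟨i, fun he : (i : ι) = a => ha (he ▸ i.2), rfl⟩) hm)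
      have := isPIndependent_comp (isPIndependent_option ih hc) (Finset.subtypeInsertEquivOption ha).injective
      convert this using 1
      funext i
      by_cases hi : (i : ι) = a
      · simp [Finset.subtypeInsertEquivOption, hi]
      · simp [Finset.subtypeInsertEquivOption, hi]

/-- Between an independent family and a generating one lies a `p`-basis. -/
theorem exists_pBasis_between (S L : Set K) (hLS : L ⊆ S)
    (hS : IsPGenerating p k (Subtype.val : S → K)) (hL : IsPIndependent p k (Subtype.val : L → K)) :
    ∃ B : Set K, L ⊆ B ∧ B ⊆ S ∧ IsPBasis p k (Subtype.val : B → K) := by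
  classical
  obtain ⟨B, hLB, ⟨⟨hBS, hB⟩, hmax⟩⟩ := zorn_subset_nonempty
    {B : Set K | B ⊆ S ∧ IsPIndependent p k (Subtype.val : B → K)} (fun c hc hchain hne => by
      refine ⟨⋃₀ c, ⟨Set.sUnion_subset fun T hT => (hc hT).1, ?_⟩, fun T hT => Set.subset_sUnion_of_mem hT⟩
      refine isPIndependent_of_finset fun U => ?_
      obtain ⟨T, hT, hUT⟩ := DirectedOn.exists_mem_subset_of_finset_subset_biUnion hne
        (hchain.directedOn (r := fun s t : Set K => s ⊆ t)) (f := id) (s := U.map (Function.Embedding.subtype _))
        (by intro y hy; simp at hy; obtain ⟨hy', -⟩ := hy; simpa [Set.sUnion_eq_biUnion] using hy')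
      let g : U → T := fun i => ⟨(i : ↥(⋃₀ c)), hUT (Finset.mem_map_of_mem _ i.2)⟩
      exact isPIndependent_comp (hc hT).2 (f := g)
        (fun i j hij => Subtype.ext (Subtype.ext (congrArg (fun w : T => (w : K)) hij))))
    L ⟨hLS, hL⟩
  refine ⟨B, hLB, hBS, hB, ?_⟩
  have hall : S ⊆ (Algebra.adjoin (pPowerSubalgebra p k K) B : Set K) := by
    intro c hcS
    by_contra hc
    have hcB : c ∉ B := fun h => hc (Algebra.subset_adjoin h)
    have h1 := isPIndependent_option hB (c := c) (by rwa [Subtype.range_coe])
    let f : ↥(insert c B) → Option B := fun i => if h : (i : K) = c then none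
      else some ⟨i, (Set.mem_insert_iff.mp i.2).resolve_left h⟩
    have hf : Function.Injective f := by
      intro i j hij
      simp only [f] at hij
      split_ifs at hij with hi hj hj
      · exact Subtype.ext (hi.trans hj.symm)
      · exact Subtype.ext (congrArg (fun o : Option B => o.elim c Subtype.val) hij :)
    have h2 : IsPIndependent p k (Subtype.val : ↥(insert c B) → K) := by
      convert isPIndependent_comp h1 hf using 1
      funext i
      simp only [Function.comp_apply, f]
      split_ifs with hi
      · exact hi
      · rfl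
    exact hcB (hmax ⟨Set.insert_subset hcS hBS, h2⟩ (Set.subset_insert c B) (Set.mem_insert c B))
  refine (aeval_surjective_iff _).mp (top_le_iff.mp ?_)
  rw [Subtype.range_coe, ← (aeval_surjective_iff _).mpr hS, Subtype.range_coe, Algebra.adjoin_le_iff]
  exact hall

theorem isPIndependent_empty : IsPIndependent p k (Subtype.val : ↥(∅ : Set K) → K) := by
  rw [isPIndependent_iff]
  exact fun a => a.2.elim

theorem isPGenerating_univ : IsPGenerating p k (Subtype.val : ↥(Set.univ : Set K) → K) :=
  (aeval_surjective_iff _).mp (top_le_iff.mp fun y _ => Algebra.subset_adjoin ⟨⟨y, trivial⟩, rfl⟩)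

theorem exists_pBasis_superset {x : ι → K} (hx : IsPIndependent p k x) :
    ∃ (B : Set K) (f : ι → B), (∀ i, (f i : K) = x i) ∧ Function.Injective f ∧
      IsPBasis p k (Subtype.val : B → K) := by
  have hinj : Function.Injective x := by
    intro a b hab
    by_contra hne
    refine (isPIndependent_iff x).mp hx a ?_
    rw [hab]
    exact Algebra.subset_adjoin ⟨b, fun h => hne h.symm, rfl⟩
  have h1 : IsPIndependent p k (Subtype.val : Set.range x → K) := by
    convert isPIndependent_comp hx (Equiv.ofInjective x hinj).symm.injective using 1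
    funext i
    exact (congrArg Subtype.val ((Equiv.ofInjective x hinj).apply_symm_apply i)).symm
  obtain ⟨B, hxB, -, hB⟩ := exists_pBasis_between Set.univ (Set.range x) (Set.subset_univ _)
    isPGenerating_univ h1
  exact ⟨B, fun i => ⟨x i, hxB (Set.mem_range_self i)⟩, fun _ => rfl,
    fun a b h => hinj (congrArg Subtype.val h), hB⟩

theorem isPIndependent_iff_D (x : ι → K) :
    IsPIndependent p k x ↔ LinearIndependent K (fun i => KaehlerDifferential.D k K (x i)) := by
  constructor
  · intro h
    obtain ⟨B, f, hf, hfi, hB⟩ := exists_pBasis_superset h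
    have := (kaehlerBasis hB).linearIndependent.comp f hfi
    simpa [Function.comp_def, hf] using this
  · intro h
    rw [isPIndependent_iff]
    intro a ha
    refine h.notMem_span_image (s := {b | b ≠ a}) (x := a) (by simp) ?_
    have := span_D_of_adjoin ha
    rwa [← Set.image_comp] at this

theorem isPGenerating_iff_D (x : ι → K) :
    IsPGenerating p k x ↔ Submodule.span K (Set.range fun i => KaehlerDifferential.D k K (x i)) = ⊤ := by
  refine ⟨span_D_eq_top, fun h => ?_⟩
  obtain ⟨b, hb, hbspan, hbli⟩ := exists_linearIndependent K (Set.range fun i => KaehlerDifferential.D k K (x i))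
  rw [h] at hbspan
  choose g hg using fun z : b => hb z.2
  have hind : IsPIndependent p k (fun z : b => x (g z)) := by
    rw [isPIndependent_iff_D]
    convert hbli using 1
    funext z
    exact hg z
  obtain ⟨B, f, hf, hfi, hB⟩ := exists_pBasis_superset hind
  have hsurj : Function.Surjective f := by
    intro c
    by_contra hc
    push Not at hc
    refine (kaehlerBasis hB).linearIndependent.notMem_span_image (s := Set.range f) (x := c)
      (by rintro ⟨z, hz⟩; exact hc z hz) ?_
    have : (kaehlerBasis hB) '' Set.range f = b := by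
      rw [← Set.range_comp]
      conv_rhs => rw [← Subtype.range_coe (s := b)]
      congr 1
      funext z
      simp [hf, hg]
    rw [this, hbspan]
    trivial
  refine (aeval_surjective_iff _).mp (top_le_iff.mp ?_)
  rw [← (aeval_surjective_iff _).mpr hB.2, Algebra.adjoin_le_iff]
  rintro _ ⟨c, rfl⟩
  obtain ⟨z, rfl⟩ := hsurj c
  rw [hf z]
  exact Algebra.subset_adjoin (Set.mem_range_self _)

end Groth.Agent.PBasis12
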