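import Groth.Agent.PBasis12.Universal

/-!
Generalities on `p`-independent and `p`-generating families.
-/

universe u

namespace Groth.Agent.PBasis12

open EGA41

variable {p : ℕ} {A B : Type u} [CommRing A] [CommRing B] [Algebra A B] {ι κ : Type u}

theorem pow_mem_pPower (b : B) : b ^ p ∈ pPowerSubalgebra p A B :=
  Algebra.subset_adjoin ⟨b, rfl⟩

theorem pPower_eq_bot (hpow : ∀ b : B, b ^ p ∈ Set.range (algebraMap A B)) :
    pPowerSubalgebra p A B = ⊥ := by
  rw [eq_bot_iff, pPowerSubalgebra, Algebra.adjoin_le_iff]
  rintro _ ⟨b, rfl⟩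
  exact Algebra.mem_bot.mpr (hpow b)

theorem mem_range_of_mem_pPower (hpow : ∀ b : B, b ^ p ∈ Set.range (algebraMap A B))
    (s : pPowerSubalgebra p A B) : ∃ a : A, algebraMap A B a = s := by
  exact Algebra.mem_bot.mp ((pPower_eq_bot hpow).le s.2)

theorem span_eq_span (hpow : ∀ b : B, b ^ p ∈ Set.range (algebraMap A B)) (T : Set B) :
    (Submodule.span (pPowerSubalgebra p A B) T : Set B) = Submodule.span A T := by
  refine Set.Subset.antisymm (fun b hb => ?_) (Submodule.span_le_restrictScalars A _ T)
  induction hb using Submodule.span_induction with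
  | mem y hy => exact Submodule.subset_span hy
  | zero => exact zero_mem (Submodule.span A T)
  | add y z _ _ hy hz => exact add_mem (S := Submodule A B) hy hz
  | smul s y _ hy =>
    obtain ⟨a, ha⟩ := mem_range_of_mem_pPower hpow s
    have : s • y = a • y := by rw [Subalgebra.smul_def, smul_eq_mul, ← ha, Algebra.smul_def]
    rw [this]
    exact Submodule.smul_mem (Submodule.span A T) a hy

theorem isPGenerating_iff_span (hpow : ∀ b : B, b ^ p ∈ Set.range (algebraMap A B)) (x : ι → B) :
    IsPGenerating p A x ↔
      Submodule.span A (Set.range fun e : Red p ι => pMonomial x e.1) = ⊤ := by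
  rw [IsPGenerating, ← SetLike.coe_set_eq, span_eq_span hpow, ← SetLike.coe_set_eq (q := (⊤ : Submodule A B))]
  rfl

theorem isPIndependent_iff_li (hinj : Function.Injective (algebraMap A B))
    (hpow : ∀ b : B, b ^ p ∈ Set.range (algebraMap A B)) (x : ι → B) :
    IsPIndependent p A x ↔ LinearIndependent A (fun e : Red p ι => pMonomial x e.1) := by
  classical
  constructor
  · intro h
    refine LinearIndependent.restrict_scalars ?_ h
    intro a b hab
    refine hinj ?_
    simpa [Algebra.smul_def] using congrArg Subtype.val hab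
  · intro h
    rw [IsPIndependent, linearIndependent_iff']
    intro t g hg i hi
    choose a ha using fun j : Red p ι => mem_range_of_mem_pPower hpow (g j)
    have : ∑ j ∈ t, a j • pMonomial x j.1 = 0 := by
      rw [← hg]
      refine Finset.sum_congr rfl fun j _ => ?_
      rw [Subalgebra.smul_def, smul_eq_mul, ← ha, Algebra.smul_def]
    apply Subtype.ext
    rw [← ha i, linearIndependent_iff'.mp h t a this i hi]
    simp

theorem aeval_surjective_iff [Fact p.Prime] (x : ι → B) :
    Algebra.adjoin (pPowerSubalgebra p A B) (Set.range x) = ⊤ ↔ IsPGenerating p A x := by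
  refine ⟨fun h => ?_, adjoin_eq_top⟩
  rw [IsPGenerating, eq_top_iff]
  intro b _
  let s : ι → pPowerSubalgebra p A B := fun i => ⟨x i ^ p, pow_mem_pPower _⟩
  rw [Algebra.adjoin_range_eq_range_aeval] at h
  obtain ⟨f, rfl⟩ := (AlgHom.range_eq_top _).mp h b
  obtain ⟨g, hg, hfg⟩ := exists_reduced (p := p) s f
  have h0 : relIdeal p s ≤ RingHom.ker
      (MvPolynomial.aeval x : MvPolynomial ι (pPowerSubalgebra p A B) →ₐ[_] B) := by
    rw [relIdeal, Ideal.span_le]
    rintro _ ⟨i, rfl⟩
    simp [s]
  have h1 : MvPolynomial.aeval x f = MvPolynomial.aeval x g := by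
    rw [← sub_eq_zero, ← map_sub]
    exact h0 hfg
  rw [h1]
  clear hfg h1
  induction hg using Submodule.span_induction with
  | mem y hy =>
    obtain ⟨e, rfl⟩ := hy
    rw [aeval_monomial_one]
    exact Submodule.subset_span ⟨e, rfl⟩
  | zero => simp
  | add y z _ _ hy hz =>
    rw [map_add]
    exact add_mem hy hz
  | smul a y _ hy => rw [map_smul]; exact Submodule.smul_mem _ a hy

theorem D_pPower_eq_zero [CharP B p] {a : B} (ha : a ∈ pPowerSubalgebra p A B) :
    KaehlerDifferential.D A B a = 0 := by
  induction ha using Algebra.adjoin_induction with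
  | mem x hx =>
    obtain ⟨b, rfl⟩ := hx
    rw [Derivation.leibniz_pow, ← Nat.cast_smul_eq_nsmul B, CharP.cast_eq_zero, zero_smul]
  | algebraMap r => exact Derivation.map_algebraMap _ r
  | add x y _ _ hx hy => rw [map_add, hx, hy, add_zero]
  | mul x y _ _ hx hy => rw [Derivation.leibniz, hx, hy, smul_zero, smul_zero, add_zero]

theorem span_D_of_adjoin [CharP B p] {T : Set B} {b : B}
    (hb : b ∈ Algebra.adjoin (pPowerSubalgebra p A B) T) :
    KaehlerDifferential.D A B b ∈ Submodule.span B (KaehlerDifferential.D A B '' T) := by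
  induction hb using Algebra.adjoin_induction with
  | mem x hx => exact Submodule.subset_span ⟨x, hx, rfl⟩
  | algebraMap r => rw [show KaehlerDifferential.D A B (algebraMap _ B r) = 0 from D_pPower_eq_zero r.2]; exact zero_mem _
  | add x y _ _ hx hy => rw [map_add]; exact add_mem hx hy
  | mul x y _ _ hx hy =>
    rw [Derivation.leibniz]
    exact add_mem (Submodule.smul_mem _ _ hy) (Submodule.smul_mem _ _ hx)

theorem span_D_eq_top [Fact p.Prime] [CharP B p] {x : ι → B} (h : IsPGenerating p A x) :
    Submodule.span B (Set.range fun i => KaehlerDifferential.D A B (x i)) = ⊤ := by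
  rw [eq_top_iff, ← KaehlerDifferential.span_range_derivation, Submodule.span_le]
  rintro _ ⟨b, rfl⟩
  rw [← Function.comp_def, Set.range_comp]
  exact span_D_of_adjoin (((aeval_surjective_iff x).mpr h).symm ▸ Algebra.mem_top)

/-- The differentials of a `p`-basis form a basis. -/
noncomputable def kaehlerBasis [Fact p.Prime] [CharP B p] {x : ι → B} (hx : IsPBasis p A x) :
    Module.Basis ι B (Ω[B⁄A]) :=
  Module.Basis.mk (v := fun i => KaehlerDifferential.D A B (x i)) (by
    classical
    obtain ⟨D, hD, -⟩ := existsUnique_derivation (s := fun i => ⟨x i ^ p, pow_mem_pPower _⟩) hx.1 hx.2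
      (fun i => rfl) (ι →₀ B) (fun i => Finsupp.single i 1)
    let D' : Derivation A B (ι →₀ B) := D.restrictScalars A
    refine LinearIndependent.of_comp D'.liftKaehlerDifferential ?_
    rw [show D'.liftKaehlerDifferential ∘ (fun i => KaehlerDifferential.D A B (x i)) =
      fun i => Finsupp.single i (1 : B) from funext fun i => by
        rw [Function.comp_apply, Derivation.liftKaehlerDifferential_comp_D]; exact hD i]
    exact (Finsupp.basisSingleOne (R := B) (ι := ι)).linearIndependent)
    (span_D_eq_top hx.2).ge

@[simp]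
theorem kaehlerBasis_apply [Fact p.Prime] [CharP B p] {x : ι → B} (hx : IsPBasis p A x) (i : ι) :
    kaehlerBasis hx i = KaehlerDifferential.D A B (x i) := Module.Basis.mk_apply _ _ i

theorem pMonomial_mapDomain (x : ι → B) {f : κ → ι} (hf : Function.Injective f) (e : κ →₀ ℕ) :
    pMonomial x (e.mapDomain f) = pMonomial (x ∘ f) e :=
  Finsupp.prod_mapDomain_index_inj hf

theorem isPIndependent_comp [Fact p.Prime] {x : ι → B} (h : IsPIndependent p A x) {f : κ → ι}
    (hf : Function.Injective f) : IsPIndependent p A (x ∘ f) := by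
  have hlt : ∀ (e : Red p κ) (i : ι), (e.1.mapDomain f) i < p := by
    intro e i
    by_cases hi : i ∈ Set.range f
    · obtain ⟨j, rfl⟩ := hi
      rw [Finsupp.mapDomain_apply hf]
      exact e.2 j
    · rw [Finsupp.mapDomain_of_notMem_range _ _ hi]
      exact (Fact.out : p.Prime).pos
  let g : Red p κ → Red p ι := fun e => ⟨e.1.mapDomain f, hlt e⟩
  have hg : Function.Injective g := fun a b hab =>
    Subtype.ext (Finsupp.mapDomain_injective hf (congrArg Subtype.val hab))
  have := h.comp g hg
  rw [IsPIndependent]
  convert this using 1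
  funext e
  exact (pMonomial_mapDomain x hf e.1).symm

theorem isPIndependent_of_finset [Fact p.Prime] {x : ι → B}
    (h : ∀ U : Finset ι, IsPIndependent p A (fun i : U => x i)) : IsPIndependent p A x := by
  classical
  rw [IsPIndependent, linearIndependent_iff_finset_linearIndependent]
  intro T
  let U : Finset ι := T.biUnion fun e => e.1.support
  have hsupp : ∀ e : T, e.1.1.support ⊆ U := fun e => Finset.subset_biUnion_of_mem (fun e : Red p ι => e.1.support) e.2
  let g : T → Red p U := fun e => ⟨e.1.1.subtypeDomain (· ∈ U), fun i => e.1.2 i.1⟩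
  have hval : ∀ e : T, (g e).1.mapDomain Subtype.val = e.1.1 := fun e => by
    ext i
    by_cases hi : i ∈ U
    · exact Finsupp.mapDomain_apply Subtype.val_injective _ (⟨i, hi⟩ : U)
    · rw [Finsupp.mapDomain_of_notMem_range _ _ (by simpa using hi)]
      exact (Finsupp.notMem_support_iff.mp fun h => hi (hsupp e h)).symm
  have hg : Function.Injective g := fun a b hab => by
    apply Subtype.ext; apply Subtype.ext
    rw [← hval a, ← hval b, hab]
  have := (h U).comp g hg
  convert this using 1
  funext e
  show pMonomial x e.1.1 = pMonomial (x ∘ Subtype.val) (g e).1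
  rw [← pMonomial_mapDomain x Subtype.val_injective, hval]

end Groth.Agent.PBasis12
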