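import Groth.Prelude.Def_EGA41
import Mathlib.RingTheory.MvPolynomial.Basic
import Mathlib.Algebra.TrivSqZeroExt.Basic
import Mathlib.RingTheory.Kaehler.Basic
import Mathlib.Algebra.CharP.Lemmas

/-!
The universal property of a ring with a monomial basis relative to `X_i^p = s_i`.
-/

universe u v

namespace Groth.Agent.PBasis12

open EGA41 MvPolynomial

variable {p : ℕ} {S B : Type u} [CommRing S] [CommRing B] [Algebra S B] {ι : Type u}

/-- The index set of reduced monomials. -/
abbrev Red (p : ℕ) (ι : Type u) := {e : ι →₀ ℕ // ∀ i, e i < p}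

theorem aeval_monomial_one (x : ι → B) (e : ι →₀ ℕ) :
    aeval x (monomial e (1 : S)) = pMonomial x e := by
  simp [aeval_monomial, pMonomial]

theorem map_pMonomial {C : Type u} [CommRing C] {F : Type*} [FunLike F B C] [RingHomClass F B C]
    (f : F) (x : ι → B) (e : ι →₀ ℕ) : f (pMonomial x e) = pMonomial (fun i => f (x i)) e := by
  simp [pMonomial, map_finsuppProd]

/-- The ideal of the relations `X_i^p = s_i`. -/
noncomputable def relIdeal (p : ℕ) (s : ι → S) : Ideal (MvPolynomial ι S) :=
  Ideal.span (Set.range fun i => X i ^ p - C (s i))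

theorem exists_reduced [Fact p.Prime] (s : ι → S) (f : MvPolynomial ι S) :
    ∃ g ∈ Submodule.span S (Set.range fun e : Red p ι => monomial e.1 (1 : S)),
      f - g ∈ relIdeal p s := by
  classical
  have h0 : 0 < p := (Fact.out : p.Prime).pos
  induction f using MvPolynomial.induction_on with
  | C a =>
    refine ⟨C a, ?_, by simp⟩
    rw [show C a = a • monomial (⟨0, fun _ => h0⟩ : Red p ι).1 (1 : S) by simp [smul_eq_C_mul]]
    exact Submodule.smul_mem _ _ (Submodule.subset_span ⟨_, rfl⟩)
  | add f g hf hg =>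
    obtain ⟨f', hf', hf''⟩ := hf
    obtain ⟨g', hg', hg''⟩ := hg
    exact ⟨f' + g', add_mem hf' hg', by simpa [add_sub_add_comm] using add_mem hf'' hg''⟩
  | mul_X f n hf =>
    obtain ⟨g, hg, hfg⟩ := hf
    suffices h : ∃ g' ∈ Submodule.span S (Set.range fun e : Red p ι => monomial e.1 (1 : S)),
        g * X n - g' ∈ relIdeal p s by
      obtain ⟨g', hg', hgg'⟩ := h
      refine ⟨g', hg', ?_⟩
      have := add_mem (Ideal.mul_mem_right (X n) _ hfg) hgg'
      rwa [sub_mul, sub_add_sub_cancel] at this
    clear hfg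
    induction hg using Submodule.span_induction with
    | mem y hy =>
      obtain ⟨⟨e, he⟩, rfl⟩ := hy
      have hm : monomial e (1 : S) * X n = monomial (e + Finsupp.single n 1) 1 := by
        rw [X, monomial_mul, one_mul]
      by_cases hn : e n + 1 < p
      · refine ⟨_, Submodule.subset_span ⟨⟨e + Finsupp.single n 1, fun i => ?_⟩, rfl⟩, by simp [hm]⟩
        by_cases hi : i = n
        · subst hi; simpa using hn
        · simpa [Finsupp.single_eq_of_ne hi] using he i
      · have hn' : e n + 1 = p := le_antisymm (he n) (not_lt.mp hn)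
        refine ⟨s n • monomial (e.erase n) 1, Submodule.smul_mem _ _
          (Submodule.subset_span ⟨⟨e.erase n, fun i => ?_⟩, rfl⟩), ?_⟩
        · by_cases hi : i = n
          · subst hi; simpa using h0
          · simpa [Finsupp.erase_ne hi] using he i
        · have hexp : e + Finsupp.single n 1 = e.erase n + Finsupp.single n p := by
            ext i
            by_cases hi : i = n
            · subst hi; simpa using hn'
            · simp [Finsupp.single_eq_of_ne hi, Finsupp.erase_ne hi]
          have : monomial e (1 : S) * X n - s n • monomial (e.erase n) 1 =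
              monomial (e.erase n) 1 * (X n ^ p - C (s n)) := by
            rw [hm, hexp, mul_sub, X_pow_eq_monomial, monomial_mul, one_mul, smul_eq_C_mul,
              mul_comm (C (s n))]
          rw [this]
          exact Ideal.mul_mem_left _ _ (Ideal.subset_span ⟨n, rfl⟩)
    | zero => exact ⟨0, zero_mem _, by simp⟩
    | add y z _ _ hy hz =>
      obtain ⟨y', h1, h2⟩ := hy
      obtain ⟨z', h3, h4⟩ := hz
      exact ⟨y' + z', add_mem h1 h3, by simpa [add_mul, add_sub_add_comm] using add_mem h2 h4⟩
    | smul a y _ hy =>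
      obtain ⟨y', h1, h2⟩ := hy
      refine ⟨a • y', Submodule.smul_mem _ _ h1, ?_⟩
      rw [smul_mul_assoc, ← smul_sub]
      exact Submodule.smul_of_tower_mem _ a h2

variable {x : ι → B} {s : ι → S}

theorem adjoin_eq_top
    (hsp : Submodule.span S (Set.range fun e : Red p ι => pMonomial x e.1) = ⊤) :
    Algebra.adjoin S (Set.range x) = ⊤ := by
  rw [← Algebra.toSubmodule_eq_top, eq_top_iff, ← hsp, Submodule.span_le]
  rintro _ ⟨e, rfl⟩
  show pMonomial x e.1 ∈ Algebra.adjoin S (Set.range x)
  exact prod_mem fun i _ => pow_mem (Algebra.subset_adjoin (Set.mem_range_self i)) _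

theorem ker_aeval [Fact p.Prime]
    (hli : LinearIndependent S (fun e : Red p ι => pMonomial x e.1))
    (hs : ∀ i, algebraMap S B (s i) = x i ^ p) :
    RingHom.ker (aeval x : MvPolynomial ι S →ₐ[S] B) = relIdeal p s := by
  have hle : relIdeal p s ≤ RingHom.ker (aeval x : MvPolynomial ι S →ₐ[S] B) := by
    rw [relIdeal, Ideal.span_le]
    rintro _ ⟨i, rfl⟩
    simp [hs]
  refine le_antisymm (fun f hf => ?_) hle
  obtain ⟨g, hg, hfg⟩ := exists_reduced (p := p) s f
  suffices g = 0 by simpa [this] using hfg
  have hg0 : aeval x g = 0 := by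
    have h1 := hle hfg
    rw [RingHom.mem_ker, map_sub, RingHom.mem_ker.mp hf, zero_sub, neg_eq_zero] at h1
    exact h1
  obtain ⟨c, rfl⟩ := Finsupp.mem_span_range_iff_exists_finsupp.mp hg
  have : Finsupp.linearCombination S (fun e : Red p ι => pMonomial x e.1) c = 0 := by
    rw [← hg0, Finsupp.linearCombination_apply, Finsupp.sum, Finsupp.sum, map_sum]
    simp only [map_smul, aeval_monomial_one]
  rw [linearIndependent_iff.mp hli c this]
  simp

/-- Maps out of `B` correspond to families of `p`-th roots of the images of `s`. -/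
theorem existsUnique_algHom [Fact p.Prime]
    (hli : LinearIndependent S (fun e : Red p ι => pMonomial x e.1))
    (hsp : Submodule.span S (Set.range fun e : Red p ι => pMonomial x e.1) = ⊤)
    (hs : ∀ i, algebraMap S B (s i) = x i ^ p)
    {E : Type v} [CommRing E] [Algebra S E] (z : ι → E) (hz : ∀ i, z i ^ p = algebraMap S E (s i)) :
    ∃! v : B →ₐ[S] E, ∀ i, v (x i) = z i := by
  let π : MvPolynomial ι S →ₐ[S] B := aeval x
  have hπ : Function.Surjective π := by
    rw [← AlgHom.range_eq_top, ← Algebra.adjoin_range_eq_range_aeval, adjoin_eq_top hsp]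
  have hker : ∀ f ∈ RingHom.ker π, (aeval z : MvPolynomial ι S →ₐ[S] E) f = 0 := by
    intro f hf
    rw [ker_aeval hli hs] at hf
    have : relIdeal p s ≤ RingHom.ker (aeval z : MvPolynomial ι S →ₐ[S] E) := by
      rw [relIdeal, Ideal.span_le]
      rintro _ ⟨i, rfl⟩
      simp [hz]
    exact this hf
  refine ⟨(Ideal.Quotient.liftₐ _ (aeval z) hker).comp
    (Ideal.quotientKerAlgEquivOfSurjective hπ).symm.toAlgHom, fun i => ?_, fun v hv => ?_⟩
  · have : (Ideal.quotientKerAlgEquivOfSurjective hπ).symm (x i) = Ideal.Quotient.mk _ (X i) := by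
      rw [AlgEquiv.symm_apply_eq]
      simp [π]
    show (Ideal.Quotient.liftₐ _ (aeval z) hker) ((Ideal.quotientKerAlgEquivOfSurjective hπ).symm (x i)) = z i
    rw [this]
    show aeval z (X i) = z i
    simp
  · ext b
    obtain ⟨f, rfl⟩ := hπ b
    have h1 : (Ideal.quotientKerAlgEquivOfSurjective hπ).symm (π f) = Ideal.Quotient.mk _ f := by
      rw [AlgEquiv.symm_apply_eq]
      simp
    show v (π f) = (Ideal.Quotient.liftₐ _ (aeval z) hker) ((Ideal.quotientKerAlgEquivOfSurjective hπ).symm (π f))
    rw [h1]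
    show v.comp π f = aeval z f
    congr 1
    ext i
    simp [π, hv]

/-- Derivations out of `B` correspond to arbitrary values on `x`. -/
theorem existsUnique_derivation [Fact p.Prime] [CharP B p]
    (hli : LinearIndependent S (fun e : Red p ι => pMonomial x e.1))
    (hsp : Submodule.span S (Set.range fun e : Red p ι => pMonomial x e.1) = ⊤)
    (hs : ∀ i, algebraMap S B (s i) = x i ^ p)
    (L : Type v) [AddCommGroup L] [Module B L] [Module S L] [IsScalarTower S B L] (y : ι → L) :
    ∃! D : Derivation S B L, ∀ i, D (x i) = y i := by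
  let : Module Bᵐᵒᵖ L := Module.compHom L ((RingHom.id B).fromOpposite fun _ _ => Commute.all _ _)
  have : IsCentralScalar B L := ⟨fun _ _ => rfl⟩
  have hz : ∀ i, (TrivSqZeroExt.inl (x i) + TrivSqZeroExt.inr (y i) : TrivSqZeroExt B L) ^ p =
      algebraMap S (TrivSqZeroExt B L) (s i) := by
    intro i
    apply TrivSqZeroExt.ext
    · simp [TrivSqZeroExt.algebraMap_eq_inl', hs]
    · rw [TrivSqZeroExt.snd_pow, ← Nat.cast_smul_eq_nsmul B, CharP.cast_eq_zero, zero_smul,
        TrivSqZeroExt.algebraMap_eq_inl', TrivSqZeroExt.snd_inl]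
  obtain ⟨v, hv, -⟩ := existsUnique_algHom hli hsp hs _ hz
  have hfst : ∀ b, (v b).fst = b := by
    intro b
    have : (TrivSqZeroExt.fstHom S B L).comp v = AlgHom.id S B := by
      refine AlgHom.ext_of_adjoin_eq_top (adjoin_eq_top hsp) ?_
      rintro _ ⟨i, rfl⟩
      simp [hv]
    exact AlgHom.congr_fun this b
  let D : Derivation S B L := Derivation.mk'
    { toFun := fun b => (v b).snd
      map_add' := fun a b => by simp
      map_smul' := fun a b => by simp }
    (fun a b => by
      show (v (a * b)).snd = a • (v b).snd + b • (v a).snd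
      rw [map_mul, TrivSqZeroExt.snd_mul, hfst, hfst, op_smul_eq_smul])
  refine ⟨D, fun i => ?_, fun D' hD' => ?_⟩
  · show (v (x i)).snd = y i
    simp [hv]
  · refine Derivation.ext_of_adjoin_eq_top _ (adjoin_eq_top hsp) ?_
    rintro _ ⟨i, rfl⟩
    show D' (x i) = (v (x i)).snd
    simp [hD', hv]

end Groth.Agent.PBasis12
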